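import Groth.Agent.KFlatLib.Scheme.RpushQCoh
import Groth.Agent.KFlatLib.Scheme.QCohD
import Mathlib.CategoryTheory.Triangulated.Adjunction

/-!
# Cohomological bounds for the total right derived functor of an additive functor
-/

set_option backward.isDefEq.respectTransparency false
set_option backward.isDefEq.respectTransparency.types false
set_option linter.style.haveILetI false

universe u u' v'

open CategoryTheory CategoryTheory.Limits AlgebraicGeometry Pretriangulated

attribute [local instance] HasDerivedCategory.standard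

namespace Groth.Agent.RFBound

open Groth.Agent.KFlatLib

variable {X : Scheme.{u}} {B : Type u'} [Category.{v'} B] [Abelian B] (F : X.Modules ⥤ B) [F.Additive]

/-- The functor on the homotopy category. -/
noncomputable abbrev kh :
    HomotopyCategory X.Modules (ComplexShape.up ℤ) ⥤ DerivedCategory B :=
  F.mapHomotopyCategory (ComplexShape.up ℤ) ⋙ DerivedCategory.Qh

variable [(kh F).HasRightDerivedFunctor (HomotopyCategory.quasiIso X.Modules (ComplexShape.up ℤ))]

/-- The total right derived functor. -/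
noncomputable abbrev rf : DCoh.D X ⥤ DerivedCategory B :=
  (kh F).totalRightDerived DerivedCategory.Qh (HomotopyCategory.quasiIso X.Modules (ComplexShape.up ℤ))

lemma exists_triangle (T : Triangle (DCoh.D X)) (hT : T ∈ distTriang (DCoh.D X)) :
    ∃ c : (rf F).obj T.obj₃ ⟶ ((rf F).obj T.obj₁)⟦(1 : ℤ)⟧,
      Triangle.mk ((rf F).map T.mor₁) ((rf F).map T.mor₂) c ∈ distTriang (DerivedCategory B) := by
  haveI := TriCat.qh_isLeftAdjoint_of_exists_resolution (A := X.Modules) exists_kInjective_res
  let adjQ := Adjunction.ofIsLeftAdjoint (DerivedCategory.Qh (C := X.Modules))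
  let ρ := (DerivedCategory.Qh (C := X.Modules)).rightAdjoint
  let W := HomotopyCategory.quasiIso X.Modules (ComplexShape.up ℤ)
  haveI : (ρ ⋙ kh F).IsRightDerivedFunctor (Functor.whiskerRight adjQ.unit (kh F)) W :=
    TriCat.isRightDerivedFunctor_of_adjunction adjQ W (kh F)
  let e : ρ ⋙ kh F ≅ rf F :=
    Functor.rightDerivedUnique _ _ (Functor.whiskerRight adjQ.unit (kh F))
      ((kh F).totalRightDerivedUnit DerivedCategory.Qh W) W
  letI := adjQ.rightAdjointCommShift ℤ
  haveI := adjQ.commShift_of_leftAdjoint ℤ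
  haveI : ρ.IsTriangulated := adjQ.isTriangulated_rightAdjoint
  have h := (ρ ⋙ kh F).map_distinguished T hT
  refine ⟨e.inv.app T.obj₃ ≫ ((ρ ⋙ kh F).mapTriangle.obj T).mor₃ ≫
    (e.hom.app T.obj₁)⟦(1 : ℤ)⟧', isomorphic_distinguished _ h _ ?_⟩
  refine Triangle.isoMk _ _ (e.symm.app _) (e.symm.app _) (e.symm.app _) ?_ ?_ ?_
  · exact e.inv.naturality T.mor₁
  · exact e.inv.naturality T.mor₂
  · change (e.inv.app T.obj₃ ≫ ((ρ ⋙ kh F).mapTriangle.obj T).mor₃ ≫
        (e.hom.app T.obj₁)⟦(1 : ℤ)⟧') ≫ (e.inv.app T.obj₁)⟦(1 : ℤ)⟧' = e.inv.app T.obj₃ ≫ _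
    rw [Category.assoc]
    refine congrArg (e.inv.app T.obj₃ ≫ ·) ((Category.assoc _ _ _).trans ?_)
    erw [← Functor.map_comp, Iso.hom_inv_id_app, CategoryTheory.Functor.map_id, Category.comp_id]

lemma nonempty_shift (K : DCoh.D X) (n : ℤ) :
    Nonempty ((rf F).obj (K⟦n⟧) ≅ ((rf F).obj K)⟦n⟧) := by
  haveI := TriCat.qh_isLeftAdjoint_of_exists_resolution (A := X.Modules) exists_kInjective_res
  let adjQ := Adjunction.ofIsLeftAdjoint (DerivedCategory.Qh (C := X.Modules))
  let ρ := (DerivedCategory.Qh (C := X.Modules)).rightAdjoint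
  let W := HomotopyCategory.quasiIso X.Modules (ComplexShape.up ℤ)
  haveI : (ρ ⋙ kh F).IsRightDerivedFunctor (Functor.whiskerRight adjQ.unit (kh F)) W :=
    TriCat.isRightDerivedFunctor_of_adjunction adjQ W (kh F)
  let e : ρ ⋙ kh F ≅ rf F :=
    Functor.rightDerivedUnique _ _ (Functor.whiskerRight adjQ.unit (kh F))
      ((kh F).totalRightDerivedUnit DerivedCategory.Qh W) W
  letI := adjQ.rightAdjointCommShift ℤ
  exact ⟨(e.app _).symm ≪≫ ((ρ ⋙ kh F).commShiftIso n).app K ≪≫
    (shiftFunctor _ n).mapIso (e.app K)⟩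

lemma nonempty_iso_of_kInjective {I : CochainComplex X.Modules ℤ} [I.IsKInjective]
    {K : DCoh.D X} (e : DerivedCategory.Q.obj I ≅ K) :
    Nonempty ((rf F).obj K ≅
      DerivedCategory.Q.obj ((F.mapHomologicalComplex (ComplexShape.up ℤ)).obj I)) := by
  haveI := TriCat.qh_isLeftAdjoint_of_exists_resolution (A := X.Modules) exists_kInjective_res
  let adjQ := Adjunction.ofIsLeftAdjoint (DerivedCategory.Qh (C := X.Modules))
  let ρ := (DerivedCategory.Qh (C := X.Modules)).rightAdjoint
  let W := HomotopyCategory.quasiIso X.Modules (ComplexShape.up ℤ)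
  haveI : (ρ ⋙ kh F).IsRightDerivedFunctor (Functor.whiskerRight adjQ.unit (kh F)) W :=
    TriCat.isRightDerivedFunctor_of_adjunction adjQ W (kh F)
  let e' : ρ ⋙ kh F ≅ rf F :=
    Functor.rightDerivedUnique _ _ (Functor.whiskerRight adjQ.unit (kh F))
      ((kh F).totalRightDerivedUnit DerivedCategory.Qh W) W
  let qI := (HomotopyCategory.quotient X.Modules (ComplexShape.up ℤ)).obj I
  haveI : IsIso (adjQ.unit.app qI) := by
    refine isIso_iff_yoneda_map_bijective _ |>.2 fun A => ?_
    have hb := ((adjQ.homEquiv A (DerivedCategory.Qh.obj qI)).bijective).comp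
      (CochainComplex.IsKInjective.Qh_map_bijective A I)
    have h : (fun φ : A ⟶ qI => φ ≫ adjQ.unit.app qI) =
        (adjQ.homEquiv A (DerivedCategory.Qh.obj qI)) ∘ DerivedCategory.Qh.map :=
      funext fun φ => (adjQ.unit.naturality φ).trans (adjQ.homEquiv_unit ..).symm
    exact h ▸ hb
  exact ⟨(rf F).mapIso (e.symm ≪≫ ((DerivedCategory.quotientCompQhIso X.Modules).app I).symm) ≪≫
    (e'.app _).symm ≪≫ (kh F).mapIso (asIso (adjQ.unit.app qI)).symm ≪≫
    DerivedCategory.Qh.mapIso ((F.mapHomotopyCategoryFactors (ComplexShape.up ℤ)).app I) ≪≫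
    (DerivedCategory.quotientCompQhIso B).app _⟩

variable [HasInjectiveResolutions X.Modules]

lemma isZero_single (M : X.Modules) (i : ℤ)
    (h : i < 0 ∨ ∃ n : ℕ, i = n ∧ IsZero ((F.rightDerived n).obj M)) :
    IsZero ((DerivedCategory.homologyFunctor B i).obj ((rf F).obj (DCoh.inD X M))) := by
  obtain ⟨R⟩ := HasInjectiveResolution.out (Z := M)
  let P := F.mapHomologicalComplex (ComplexShape.up ℤ)
  haveI : R.cochainComplex.IsKInjective := CochainComplex.isKInjective_of_injective _ 0
  obtain ⟨e⟩ := nonempty_iso_of_kInjective F (I := R.cochainComplex) (K := DCoh.inD X M)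
    ((asIso (DerivedCategory.Q.map R.ι')).symm ≪≫
      (((SingleFunctors.evaluation _ _ 0).mapIso
        (DerivedCategory.singleFunctorsPostcompQIso X.Modules)).app M).symm)
  refine IsZero.of_iso ?_ ((DerivedCategory.homologyFunctor B i).mapIso e ≪≫
    (DerivedCategory.homologyFunctorFactors B i).app _)
  rcases h with h | ⟨n, rfl, hn⟩
  · exact ShortComplex.isZero_homology_of_isZero_X₂ _
      (F.map_isZero (CochainComplex.isZero_of_isStrictlyGE R.cochainComplex 0 i h))
  · exact hn.of_iso ((HomologicalComplex.homologyFunctor B (ComplexShape.up ℤ) (n : ℤ)).mapIso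
        (TriCat.mapExtendIso F ComplexShape.embeddingUpNat R.cocomplex) ≪≫
      HomologicalComplex.extendHomologyIso _ ComplexShape.embeddingUpNat (j := n) (j' := (n : ℤ)) rfl ≪≫
      (R.isoRightDerivedObj F n).symm)

/-- Bounded objects with quasi-coherent cohomology have bounded derived values. -/
theorem isZero_bounded (N : ℕ)
    (hF : ∀ G : X.Modules, Coh.IsQCoh G → ∀ p : ℕ, N ≤ p → IsZero ((F.rightDerived p).obj G)) :
    ∀ (m : ℕ) (a : ℤ) (K : DCoh.D X), K.IsGE a → K.IsLE (a + m) → DCoh.IsQCohD K →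
      ∀ i : ℤ, (i < a ∨ a + m + N ≤ i) →
        IsZero ((DerivedCategory.homologyFunctor B i).obj ((rf F).obj K)) := by
  intro m
  induction m with
  | zero =>
    intro a K hge hle hq i hi
    haveI := hge
    haveI : K.IsLE a := by simpa using hle
    obtain ⟨M, ⟨e⟩⟩ := DerivedCategory.exists_iso_singleFunctor_obj_of_isGE_of_isLE K a
    let es : K ≅ (DCoh.inD X M)⟦(-a : ℤ)⟧ :=
      e ≪≫ (((DerivedCategory.singleFunctors X.Modules).shiftIso (-a) a 0 (by omega)).app M).symm
    obtain ⟨eS⟩ := nonempty_shift F (DCoh.inD X M) (-a)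
    have hM : Coh.IsQCoh M := by
      refine isQCoh_of_iso ?_ (hq a)
      exact (DerivedCategory.homologyFunctor X.Modules a).mapIso e ≪≫
        (DerivedCategory.singleFunctorCompHomologyFunctorIso X.Modules a).app M
    refine IsZero.of_iso (isZero_single F M (i - a) ?_)
      ((DerivedCategory.homologyFunctor B i).mapIso ((rf F).mapIso es ≪≫ eS) ≪≫
        ((DerivedCategory.homologyFunctor B 0).shiftIso (-a) i (i - a) (by omega)).app _)
    rcases hi with hi | hi
    · exact Or.inl (by omega)
    · obtain ⟨n, hn⟩ := Int.eq_ofNat_of_zero_le (show 0 ≤ i - a by omega)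
      exact Or.inr ⟨n, hn, hF M hM n (by omega)⟩
  | succ m ih =>
    intro a K hge hle hq i hi
    haveI := hge
    haveI := hle
    let t : Triangulated.TStructure (DCoh.D X) := DerivedCategory.TStructure.t
    let T := (t.triangleLTGE (a + 1)).obj K
    have hT : T ∈ distTriang _ := t.triangleLTGE_distinguished _ K
    haveI h₁le : T.obj₁.IsLE a := t.isLE_truncLT_obj K _ _ (by omega)
    haveI h₃ge : T.obj₃.IsGE (a + 1) := t.isGE_truncGE_obj K _ _ le_rfl
    haveI h₁ge : T.obj₁.IsGE a := by
      rw [DerivedCategory.isGE_iff]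
      intro i hi
      exact (DerivedCategory.HomologySequence.exact₁ T hT (i - 1) i (by omega)).isZero_X₂
        ((DerivedCategory.isZero_of_isGE T.obj₃ (a + 1) (i - 1) (by omega)).eq_of_src _ _)
        ((DerivedCategory.isZero_of_isGE K a i hi).eq_of_tgt _ _)
    haveI h₃le : T.obj₃.IsLE (a + 1 + m) := by
      rw [DerivedCategory.isLE_iff]
      intro i hi
      exact (DerivedCategory.HomologySequence.exact₃ T hT i (i + 1) rfl).isZero_X₂
        ((DerivedCategory.isZero_of_isLE K (a + (m + 1 : ℕ)) i (by omega)).eq_of_src _ _)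
        ((DerivedCategory.isZero_of_isLE T.obj₁ a (i + 1) (by omega)).eq_of_tgt _ _)
    have hq₃ : DCoh.IsQCohD T.obj₃ := fun i => by
      by_cases hi : a + 1 ≤ i
      · haveI : Mono ((DerivedCategory.homologyFunctor X.Modules i).map T.mor₂) :=
          (DerivedCategory.HomologySequence.exact₂ T hT i).mono_g
            ((DerivedCategory.isZero_of_isLE T.obj₁ a i (by omega)).eq_of_src _ _)
        haveI : Epi ((DerivedCategory.homologyFunctor X.Modules i).map T.mor₂) :=
          (DerivedCategory.HomologySequence.exact₃ T hT i (i + 1) rfl).epi_f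
            ((DerivedCategory.isZero_of_isLE T.obj₁ a (i + 1) (by omega)).eq_of_tgt _ _)
        haveI := isIso_of_mono_of_epi ((DerivedCategory.homologyFunctor X.Modules i).map T.mor₂)
        exact isQCoh_of_iso (asIso ((DerivedCategory.homologyFunctor X.Modules i).map T.mor₂)) (hq i)
      · exact isQCoh_of_isZero (DerivedCategory.isZero_of_isGE T.obj₃ (a + 1) i (by omega))
    have hq₁ : DCoh.IsQCohD T.obj₁ := isQCohD_obj₁ hT hq hq₃
    obtain ⟨c, hc⟩ := exists_triangle F T hT
    exact (DerivedCategory.HomologySequence.exact₂ _ hc i).isZero_X₂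
      ((ih a T.obj₁ h₁ge (DerivedCategory.TStructure.t.isLE_of_le _ a _ (by omega)) hq₁ i
        (by rcases hi with h | h <;> [exact Or.inl h; exact Or.inr (by push_cast at h; omega)])).eq_of_src _ _)
      ((ih (a + 1) T.obj₃ h₃ge h₃le hq₃ i
        (by rcases hi with h | h <;> [exact Or.inl (by omega); exact Or.inr (by push_cast at h; omega)])).eq_of_tgt _ _)

theorem isZero_of_bounds (N : ℕ)
    (hF : ∀ G : X.Modules, Coh.IsQCoh G → ∀ p : ℕ, N ≤ p → IsZero ((F.rightDerived p).obj G))
    (E : DCoh.D X) (hE : DCoh.IsQCohD E) (a b : ℤ) (hab : ∀ i : ℤ, i < a ∨ b < i → IsZero (DCoh.HD E i))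
    (i : ℤ) (hi : i < a ∨ b + N - 1 < i) :
    IsZero ((DerivedCategory.homologyFunctor B i).obj ((rf F).obj E)) := by
  by_cases h : a ≤ b
  · haveI : E.IsGE a := (DerivedCategory.isGE_iff E a).2 fun j hj => hab j (Or.inl hj)
    have hle : E.IsLE (a + (b - a).toNat) :=
      (DerivedCategory.isLE_iff E _).2 fun j hj => hab j (Or.inr (by omega))
    exact isZero_bounded F N hF _ a E inferInstance hle hE i (by omega)
  · rcases hi with hi | hi
    · haveI : E.IsGE (a + 0) := (DerivedCategory.isGE_iff E _).2 fun j hj => hab j (by omega)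
      have hle : E.IsLE (a + 0 + (0 : ℕ)) :=
        (DerivedCategory.isLE_iff E _).2 fun j hj => hab j (by omega)
      exact isZero_bounded F N hF 0 (a + 0) E inferInstance hle hE i (Or.inl (by omega))
    · haveI : E.IsGE b := (DerivedCategory.isGE_iff E _).2 fun j hj => hab j (by omega)
      have hle : E.IsLE (b + (0 : ℕ)) :=
        (DerivedCategory.isLE_iff E _).2 fun j hj => hab j (by omega)
      exact isZero_bounded F N hF 0 b E inferInstance hle hE i (Or.inr (by omega))

end Groth.Agent.RFBound
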